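import Cfsg.Agent.H71.Rs.Ext
import Cfsg.Agent.H957.SpIndex
import Cfsg.Agent.H955.QMinus
import Cfsg.Agent.H80.OrthTwo
import Cfsg.Agent.LieClassical.OrthFourMinus

/-!
# S3691, `Sp_4(q)`, `q` even: `O_4^-(q)` (helper71)

`minus_isL` : the orthogonal group of minus type contains a subgroup `SL_2(q²)` of index 2.
-/

set_option autoImplicit false
set_option linter.unusedSectionVars false

namespace Cfsg.Agent.H71.Rs

open Matrix Module Cfsg Cfsg.Geo Cfsg.Agent.H659.Rs
open Cfsg.Agent.H876 Cfsg.Agent.H931 Cfsg.Agent.ClassicalGeometry.SympBasic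
open Cfsg.Agent.LieClassical.OrthFourCommon Cfsg.Agent.LieClassical.OrthFourMinus
open scoped MatrixGroups

local notation "I4" => (Fin 2 ⊕ Fin 2)

variable {F : Type} [Field F] [Fintype F]

theorem isometryGroup_le {Q : QuadraticForm F (I4 → F)} (hpol : ∀ u v, QuadraticMap.polar Q u v = sympForm 2 F u v) :
    Cfsg.isometryGroup F (⇑Q) ≤ spGL 2 F := by
  intro g hg
  rw [mem_spGL_iff]
  intro x y
  have h : ∀ v, Q ((g : Matrix I4 I4 F) *ᵥ v) = Q v := fun v => hg v v
  rw [← hpol, ← hpol, QuadraticMap.polar, QuadraticMap.polar, ← Matrix.mulVec_add, h, h, h]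

/-- **`O_4^-(q)`** -/
theorem minus_isL [CharP F 2] (h4 : 4 ≤ Fintype.card F) {Q : QuadraticForm F (I4 → F)}
    (hpol : ∀ u v, QuadraticMap.polar Q u v = sympForm 2 F u v)
    (hnd : Cfsg.Agent.LieClassical.OrthCore.Nondeg Q) (hnP : ¬ Cfsg.Agent.H955.IsPlus Q) :
    ∃ L : Subgroup (GL I4 F), IsL L ∧
      (∀ x ∈ Cfsg.isometryGroup F (⇑Q), ∀ y ∈ L, x * y * x⁻¹ ∈ L) ∧
      ∀ x ∈ Cfsg.isometryGroup F (⇑Q), ∀ y ∈ Cfsg.isometryGroup F (⇑Q), x ∉ L → y ∉ L → x⁻¹ * y ∈ L := by
  classical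
  have hι : Fintype.card (Fin 2 ⊕ Fin 2) = 4 := by simp
  have hcardO : Nat.card (Cfsg.isometryGroup F (⇑Q)) = 2 * (Fintype.card F ^ 2 * (Fintype.card F ^ 4 - 1)) := by
    rw [Cfsg.Agent.H957.card_isometryGroup_minus Q hnd (m := 2) (by norm_num) hι hnP]
    simp only [Nat.reduceSub, Finset.range_one, Finset.prod_singleton, zero_add, mul_one]
    obtain ⟨c, hc⟩ : ∃ c, Fintype.card F ^ 2 = c + 1 :=
      ⟨_, (Nat.sub_add_cancel (Nat.one_le_pow _ _ (by omega))).symm⟩
    rw [show Fintype.card F ^ 4 = (Fintype.card F ^ 2) ^ 2 by ring, hc, Nat.add_sub_cancel]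
    have : (c + 1) ^ 2 - 1 = (c + 1 + 1) * c := by
      have : (c + 1) ^ 2 = (c + 1 + 1) * c + 1 := by ring
      rw [this, Nat.add_sub_cancel]
    rw [this]
    ring
  obtain ⟨a, b, hab⟩ := Cfsg.Agent.H955.exists_aniso_coeff F
  obtain ⟨e, he⟩ := Cfsg.Agent.H955.exists_minus_equiv hab 1 Q hnd
    (by rw [Module.finrank_fintype_fun_eq_card, hι]) hnP
  have hfact : Fact (∀ r : F, r ^ 2 ≠ -b + a * r) := ⟨fun r hr => by
    have := (hab (-r) 1 (by linear_combination hr)).2
    exact one_ne_zero this⟩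
  let _ : Fintype (E F (-b) a) := Fintype.ofEquiv _ (QuadraticAlgebra.equivProd (-b) a).symm
  have hcard : Fintype.card (E F (-b) a) = Fintype.card F ^ 2 := by
    rw [Fintype.card_congr (QuadraticAlgebra.equivProd (-b) a), Fintype.card_prod, sq]
  have hchar : CharP (E F (-b) a) 2 := charP_of_injective_algebraMap (algebraMap F (E F (-b) a)).injective 2
  obtain ⟨e'⟩ := slEquiv (L := E F (-b) a)
  obtain ⟨ε⟩ := exists_isometryGroup_equiv (e.trans (coord F (-b) a)) (⇑Q)
    (Cfsg.Agent.LieClassical.OrthFourMinus.Q (-b) a) (fun v => by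
      rw [LinearEquiv.trans_apply, Q_coord, ← he, Cfsg.Agent.LieClassical.QuadForms.coe_minusForm])
  have hinj : Function.Injective (phi (F := F) (c := -b) (d := a)) := by
    rw [injective_iff_map_eq_one]
    intro s hs
    have h1 := mem_center_of_phi_eq_one hs
    rw [Matrix.SpecialLinearGroup.mem_center_iff] at h1
    obtain ⟨c, hc, hcA⟩ := h1
    have hc1 : c = 1 := by
      rw [Fintype.card_fin] at hc
      have h3 : (c - 1) ^ 2 = 0 := by
        rw [sub_pow_char]
        simp [hc]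
      exact sub_eq_zero.1 (pow_eq_zero_iff two_ne_zero |>.1 h3)
    apply Subtype.ext
    rw [← hcA, hc1, map_one]
    rfl
  obtain ⟨ψ, hψ⟩ : ∃ ψ : Matrix.SpecialLinearGroup (Fin 2) (E F (-b) a) →* Cfsg.isometryGroup F (⇑Q),
      Function.Injective ψ := ⟨ε.symm.toMonoidHom.comp phi, ε.symm.injective.comp hinj⟩
  obtain ⟨L, hL⟩ : ∃ L : Subgroup (GL I4 F), L = ψ.range.map (Cfsg.isometryGroup F (⇑Q)).subtype := ⟨_, rfl⟩
  have hLle : L ≤ Cfsg.isometryGroup F (⇑Q) := by
    rw [hL]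
    exact Subgroup.map_subtype_le _
  have hcψ : Nat.card ψ.range = Fintype.card F ^ 2 * (Fintype.card F ^ 4 - 1) := by
    rw [← Nat.card_congr (MonoidHom.ofInjective hψ).toEquiv, Cfsg.Agent.ClassicalGeometry.PSL2Basic.card_SL2, hcard]
    ring_nf
  have hcL : Nat.card L = Nat.card ψ.range := by
    rw [hL]
    exact Subgroup.card_map_of_injective (Subgroup.subtype_injective _)
  have hidx : L.relIndex (Cfsg.isometryGroup F (⇑Q)) ∣ 2 := by
    have h1 := Subgroup.card_mul_index (L.subgroupOf (Cfsg.isometryGroup F (⇑Q)))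
    have h2 : Nat.card (L.subgroupOf (Cfsg.isometryGroup F (⇑Q))) = Nat.card L :=
      Nat.card_congr (Subgroup.subgroupOfEquivOfLe hLle).toEquiv
    rw [h2, hcardO, hcL, hcψ, mul_comm 2] at h1
    have h3 : 0 < Fintype.card F ^ 2 * (Fintype.card F ^ 4 - 1) := by
      rw [← hcψ]
      exact Nat.card_pos
    exact (Nat.eq_of_mul_eq_mul_left h3 h1).dvd
  obtain ⟨h1, h2⟩ := two_of_relIndex hLle hidx
  refine ⟨L, ⟨hLle.trans (isometryGroup_le hpol), ⟨E F (-b) a, inferInstance, inferInstance, hcard, ?_⟩, ?_⟩, h1, h2⟩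
  · have e1 : ψ.range ≃* L := by
      rw [hL]
      exact Subgroup.equivMapOfInjective _ _ (Subgroup.subtype_injective _)
    exact ⟨e1.symm.trans ((MonoidHom.ofInjective hψ).symm.trans e')⟩
  · intro x hx hxx hx1
    refine rank_two hxx hx1 ?_
    rw [← even_iff_two_dvd]
    rw [hL] at hx
    obtain ⟨y, ⟨s, rfl⟩, rfl⟩ := hx
    have h5 : ψ s ∈ commutator (Cfsg.isometryGroup F (⇑Q)) := by
      have h6 : s ∈ commutator (Matrix.SpecialLinearGroup (Fin 2) (E F (-b) a)) := by
        rw [commutator_SL]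
        exact Subgroup.mem_top s
      have h7 : (commutator (Matrix.SpecialLinearGroup (Fin 2) (E F (-b) a))).map ψ ≤
          commutator (Cfsg.isometryGroup F (⇑Q)) := by
        rw [commutator_def, commutator_def, Subgroup.map_commutator]
        exact Subgroup.commutator_mono le_top le_top
      exact h7 ⟨s, h6, rfl⟩
    have h8 : ∃ θ : F, θ ≠ 0 ∧ θ ≠ 1 := by
      by_contra hcon
      push Not at hcon
      have h9 : (Finset.univ : Finset F) ⊆ {0, 1} := by
        intro θ _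
        by_cases h0 : θ = 0
        · simp [h0]
        · simp [hcon θ h0]
      have h10 := Finset.card_le_card h9
      have h11 := Finset.card_le_two (a := (0 : F)) (b := 1)
      rw [Finset.card_univ] at h10
      omega
    exact (Cfsg.Agent.H80.mem_commutator_iff CharTwo.two_eq_zero Q (Cfsg.Agent.H80.nondeg_of Q hnd) (Or.inl h8) (ψ s)).1 h5

end Cfsg.Agent.H71.Rs
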