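import Cfsg.Agent.H262.ElFix
import Cfsg.Agent.H884.ElNum
import Cfsg.Agent.H813.SaxSpK
import Cfsg.Agent.H544.Rg.Grp
import Cfsg.Agent.H997.Rg.Lin
import Cfsg.Agent.H234.Eight.Singer

/-!
# S3691, `Sp_4(q)`, `q` even: normal subgroups of odd index (helper71)

`no_odd_index` : if `P` is normal in `M ≤ Sp_4(q)`, `r | |P|`, `2 | |P|`, `r` a primitive prime divisor of `q⁴ - 1`, then
no odd prime divides `|M : P|`.
-/

set_option autoImplicit false
set_option linter.unusedSectionVars false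

namespace Cfsg.Agent.H71.Rs

open Matrix Module Cfsg Cfsg.Geo Cfsg.Agent.H884.El Subgroup
open Cfsg.Agent.H876 Cfsg.Agent.H931 Cfsg.Agent.ClassicalGeometry.SympBasic Cfsg.Agent.H477.HC
open scoped MatrixGroups

local notation "I4" => (Fin 2 ⊕ Fin 2)

section grp

variable {K : Type*} [Group K] [Finite K]

/-- Frattini: an element of order `s` normalising a Sylow subgroup of `N` -/
theorem exists_norm_of_index {p : ℕ} [Fact p.Prime] (N : Subgroup K) [hN : N.Normal] (Q : Sylow p N) {s : ℕ} (hs : s.Prime)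
    (hd : s ∣ N.index) : ∃ y : K, orderOf y = s ∧ y ∈ normalizer (((Q : Subgroup N).map N.subtype : Subgroup K) : Set K) := by
  have := Fact.mk hs
  have h1 := Sylow.normalizer_sup_eq_top Q
  obtain ⟨S, hS⟩ : ∃ S, S = (Q : Subgroup N).map N.subtype := ⟨_, rfl⟩
  rw [← hS] at h1 ⊢
  have h2 : N.relIndex (normalizer (S : Set K)) = N.index := by
    rw [← Subgroup.relIndex_sup_right, h1, relIndex_top_right]
  have h3 : s ∣ Nat.card (normalizer (S : Set K)) := by
    rw [← h2] at hd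
    exact hd.trans (Subgroup.relIndex_dvd_card _ _)
  obtain ⟨y, hy⟩ := exists_prime_orderOf_dvd_card' s h3
  exact ⟨y, by rw [Subgroup.orderOf_coe, hy], y.2⟩

end grp

section lin

variable {F : Type*} [Field F] [Fintype F]

/-- `q² = -1` modulo `r` -/
theorem sq_add_one {q r : ℕ} (hr : PP q 4 r) : r ∣ q ^ 2 + 1 := by
  have := Fact.mk hr.prime
  rw [← ZMod.natCast_eq_zero_iff]
  push_cast
  have h1 : (q : ZMod r) ^ 4 = 1 := by
    have := pow_orderOf_eq_one (q : ZMod r)
    rwa [hr.ord] at this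
  have h2 : (q : ZMod r) ^ 2 ≠ 1 := by
    intro h
    have := orderOf_dvd_of_pow_eq_one h
    rw [hr.ord] at this
    omega
  have h3 : ((q : ZMod r) ^ 2 - 1) * ((q : ZMod r) ^ 2 + 1) = 0 := by linear_combination h1
  exact (mul_eq_zero.1 h3).resolve_left (sub_ne_zero.2 h2)

theorem pp_of_dvd {q s : ℕ} (hs : s.Prime) (hs2 : s ≠ 2) (h : s ∣ q ^ 2 + 1) : PP q 4 s := by
  have := Fact.mk hs
  refine ⟨hs, ?_⟩
  have h1 : (q : ZMod s) ^ 2 = -1 := by
    have h2 := (ZMod.natCast_eq_zero_iff (q ^ 2 + 1) s).2 h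
    push_cast at h2
    exact eq_neg_of_add_eq_zero_left h2
  have h3 : (q : ZMod s) ^ 2 ≠ 1 := by
    rw [h1]
    intro h4
    have h5 : ((2 : ℕ) : ZMod s) = 0 := by
      push_cast
      linear_combination -h4
    rw [ZMod.natCast_eq_zero_iff] at h5
    exact hs2 ((Nat.prime_dvd_prime_iff_eq hs Nat.prime_two).1 h5)
  have h4 : orderOf (q : ZMod s) = 2 ^ (1 + 1) := by
    apply orderOf_eq_prime_pow
    · rwa [pow_one]
    · rw [show 2 ^ (1 + 1) = 2 * 2 by norm_num, pow_mul, h1]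
      ring
  rw [h4]
  norm_num

theorem PP.od' {q r : ℕ} (h : PP q 4 r) : Cfsg.Agent.H262.El.Od q 4 r :=
  ⟨h.prime, h.ord, h.not_dvd (by norm_num)⟩

/-- irreducibility -/
theorem irr {r : ℕ} (hr : PP (Nat.card F) 4 r) {y : GL I4 F} (hy : y ^ r = 1) (hy1 : y ≠ 1) :
    ∀ W : Submodule F (I4 → F), (∀ v ∈ W, (y : Matrix I4 I4 F) *ᵥ v ∈ W) → W = ⊥ ∨ W = ⊤ := by
  refine Cfsg.Agent.H262.El.irr_of_od ?_ hy hy1
  have h1 : Fintype.card I4 = 4 := by simp
  rw [h1, ← Nat.card_eq_fintype_card]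
  exact PP.od' hr

/-- no fixed vectors -/
theorem no_fix {r : ℕ} (hr : PP (Nat.card F) 4 r) {y : GL I4 F} (hy : y ^ r = 1) (hy1 : y ≠ 1) {v : I4 → F}
    (hv : (y : Matrix I4 I4 F) *ᵥ v = v) : v = 0 := by
  rcases irr hr hy hy1 (Submodule.span F {v}) (by
    intro w hw
    obtain ⟨c, rfl⟩ := Submodule.mem_span_singleton.1 hw
    rw [Matrix.mulVec_smul, hv]
    exact hw) with h | h
  · exact Submodule.span_singleton_eq_bot.1 h
  · exfalso
    have h1 : finrank F (Submodule.span F {v}) ≤ 1 := (finrank_span_le_card ({v} : Set (I4 → F))).trans (by simp)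
    rw [h, finrank_top, finrank_fintype_fun_eq_card] at h1
    simp at h1

/-- Sylow `r`-subgroups are cyclic -/
theorem cyc [CharP F 2] {r : ℕ} (hr : PP (Nat.card F) 4 r) {N : Type*} [Group N] [Finite N] (ρ : N →* GL I4 F)
    (hρ : Function.Injective ρ) (Q : Sylow r N) : IsCyclic Q := by
  have := Fact.mk hr.prime
  have hlt := hr.lt (by norm_num)
  let θ : Q →* Module.End F (I4 → F) :=
    { toFun := fun x => Matrix.toLin' ((ρ (x : N) : GL I4 F) : Matrix I4 I4 F)
      map_one' := by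
        show Matrix.toLin' ((ρ ((1 : Q) : N) : GL I4 F) : Matrix I4 I4 F) = 1
        rw [Subgroup.coe_one, map_one, Units.val_one, Matrix.toLin'_one]
        rfl
      map_mul' := fun x y => by
        show Matrix.toLin' ((ρ ((x * y : Q) : N) : GL I4 F) : Matrix I4 I4 F) = _
        rw [Subgroup.coe_mul, map_mul, Units.val_mul, Matrix.toLin'_mul]
        rfl }
  have hnt : Nontrivial (I4 → F) := inferInstance
  have hfpf : H997.Rg.Fpf 2 θ := by
    intro g hg hg2 w hw
    have hgr : orderOf g = r := by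
      obtain ⟨k, hk⟩ := (IsPGroup.iff_orderOf.1 Q.isPGroup') g
      have h1 : orderOf g ∣ r := hg.dvd_of_dvd_pow (dvd_of_eq hk)
      exact (Nat.prime_dvd_prime_iff_eq hg hr.prime).1 h1
    have h1 : orderOf (ρ (g : N)) = r := by
      rw [orderOf_injective ρ hρ, Subgroup.orderOf_coe, hgr]
    refine no_fix hr (y := ρ (g : N)) ?_ ?_ hw
    · exact orderOf_dvd_iff_pow_eq_one.1 (dvd_of_eq h1)
    · intro h2
      rw [h2, orderOf_one] at h1
      exact hr.prime.one_lt.ne h1
  obtain ⟨S⟩ : Nonempty (Sylow r Q) := inferInstance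
  have h1 := hfpf.cyc Nat.prime_two hr.prime (by omega) (by omega) S
  have h2 : (S : Subgroup Q) = ⊤ := (S.is_maximal' (Q.isPGroup'.to_subgroup ⊤) le_top).symm
  rw [h2] at h1
  exact isCyclic_of_surjective (⊤ : Subgroup Q).subtype (fun x => ⟨⟨x, mem_top x⟩, rfl⟩)

/-- the centraliser of an element of order `r` -/
theorem cent_exp {r : ℕ} (hr : PP (Nat.card F) 4 r) {x y : GL I4 F} (hx : x ∈ spGL 2 F) (hy : y ∈ spGL 2 F)
    (hxr : x ^ r = 1) (hx1 : x ≠ 1) (hxy : y * x = x * y) : y ^ (Nat.card F ^ 2 + 1) = 1 := by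
  have hB : ∀ g ∈ spGL 2 F, (matE g : (I4 → F) ≃ₗ[F] (I4 → F)) ∈ (CForm.spF F 2).iso := by
    intro g hg
    refine ⟨fun u v => ?_, fun v => rfl⟩
    change (CForm.spF F 2).B ((g : Matrix I4 I4 F) *ᵥ u) ((g : Matrix I4 I4 F) *ᵥ v) = _
    rw [spF_B_eq, spF_B_eq]
    congr 1
    exact mem_spGL_iff.1 hg u v
  have hfin : finrank F (I4 → F) = 2 * 2 := by
    rw [finrank_fintype_fun_eq_card]
    simp
  have h1 := Cfsg.Agent.H234.Eight.Singer.cent_pow (CForm.spF F 2) hr.prime (sq_add_one hr) (by norm_num) hfin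
    (fun i hi hi4 h => by
      have h2 := (hr.dvd_iff Nat.card_pos i).1 h
      have := Nat.le_of_dvd hi h2
      omega) (x := ⟨matE x, hB x hx⟩) (by
        apply Subtype.ext
        show matE x ^ r = 1
        rw [← map_pow, hxr, map_one]) (by
        intro h
        have h2 : matE x = 1 := congrArg Subtype.val h
        exact hx1 (matE.injective (h2.trans (map_one _).symm))) (fun a => rfl) (g := ⟨matE y, hB y hy⟩) (by
        apply Subtype.ext
        show matE y * matE x = matE x * matE y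
        rw [← map_mul, hxy, map_mul])
  have h2 : matE y ^ (Nat.card F ^ 2 + 1) = 1 := congrArg Subtype.val h1
  rw [← map_pow] at h2
  exact matE.injective (h2.trans (map_one _).symm)

/-- the fixed vectors of a set of matrices -/
def fixV (S : Set (GL I4 F)) : Submodule F (I4 → F) where
  carrier := {v | ∀ g ∈ S, (g : Matrix I4 I4 F) *ᵥ v = v}
  add_mem' := fun {u v} hu hv g hg => by rw [Matrix.mulVec_add, hu g hg, hv g hg]
  zero_mem' := fun g _ => Matrix.mulVec_zero _
  smul_mem' := fun c v hv g hg => by rw [Matrix.mulVec_smul, hv g hg]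

theorem mem_fixV {S : Set (GL I4 F)} {v : I4 → F} : v ∈ fixV S ↔ ∀ g ∈ S, (g : Matrix I4 I4 F) *ᵥ v = v := Iff.rfl

/-- a `2`-group fixes a nonzero vector -/
theorem fixV_ne_bot [CharP F 2] {R : Subgroup (GL I4 F)} (hR : IsPGroup 2 R) : fixV (R : Set (GL I4 F)) ≠ ⊥ := by
  intro hbot
  let _ := Cfsg.Agent.H813.SaxSp.vact R
  have : Fact (Nat.Prime 2) := ⟨Nat.prime_two⟩
  have hmod := hR.card_modEq_card_fixedPoints (I4 → F)
  obtain ⟨f, -, hf⟩ := FiniteField.card F 2
  have h1 : 2 ∣ Nat.card (I4 → F) := by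
    rw [Cfsg.Agent.H813.SaxSp.card_V, hf]
    exact dvd_pow (dvd_pow_self 2 f.pos.ne') (by norm_num)
  have h2 : 2 ∣ Nat.card (MulAction.fixedPoints R (I4 → F)) := (Nat.ModEq.dvd_iff hmod dvd_rfl).1 h1
  have h0 : (0 : I4 → F) ∈ MulAction.fixedPoints R (I4 → F) := fun g => Matrix.mulVec_zero _
  have h3 : 1 < Nat.card (MulAction.fixedPoints R (I4 → F)) := by
    have : 0 < Nat.card (MulAction.fixedPoints R (I4 → F)) := by
      have : Nonempty (MulAction.fixedPoints R (I4 → F)) := ⟨⟨0, h0⟩⟩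
      exact Nat.card_pos
    have := Nat.le_of_dvd this h2
    omega
  have h4 := Finite.one_lt_card_iff_nontrivial.1 h3
  obtain ⟨⟨v, hv⟩, hne⟩ := exists_ne (⟨0, h0⟩ : MulAction.fixedPoints R (I4 → F))
  have h5 : v ∈ fixV (R : Set (GL I4 F)) := fun g hg => hv ⟨g, hg⟩
  rw [hbot, Submodule.mem_bot] at h5
  exact hne (Subtype.ext h5)

/-- **no odd prime divides the index** -/
theorem no_odd_index [CharP F 2] {M P : Subgroup (GL I4 F)} (hM : M ≤ spGL 2 F) (hPM : P ≤ M)
    (hn : (P.subgroupOf M).Normal) {r : ℕ} (hr : PP (Nat.card F) 4 r) (hrP : r ∣ Nat.card P) (h2P : 2 ∣ Nat.card P)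
    {s : ℕ} (hs : s.Prime) (hs2 : s ≠ 2) : ¬ s ∣ (P.subgroupOf M).index := by
  intro hd
  have := Fact.mk hr.prime
  have := Fact.mk Nat.prime_two
  have := Fact.mk hs
  have hcN : Nat.card (P.subgroupOf M) = Nat.card P := Nat.card_congr (Subgroup.subgroupOfEquivOfLe hPM).toEquiv
  obtain ⟨N, hN⟩ : ∃ N : Subgroup M, N = P.subgroupOf M := ⟨_, rfl⟩
  rw [← hN] at hn hd hcN
  have hmatinj : Function.Injective (fun x : N => ((x : M) : GL I4 F)) := fun a b h => Subtype.ext (Subtype.ext h)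
  -- `s ∣ q² + 1`
  have hsq : s ∣ Nat.card F ^ 2 + 1 := by
    obtain ⟨Q⟩ : Nonempty (Sylow r N) := inferInstance
    obtain ⟨y, hyo, hyN⟩ := exists_norm_of_index N Q hs hd
    have hcyc : IsCyclic ((Q : Subgroup N).map N.subtype) := by
      have h1 := cyc hr (M.subtype.comp N.subtype) (Subtype.coe_injective.comp Subtype.coe_injective) Q
      exact isCyclic_of_surjective _ ((Q : Subgroup N).equivMapOfInjective N.subtype N.subtype_injective).surjective
    have hrQ : r ∣ Nat.card (Q : Subgroup N) := by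
      have := Q.pow_dvd_card_of_pow_dvd_card (n := 1) (by rw [pow_one, hcN]; exact hrP)
      rwa [pow_one] at this
    obtain ⟨x₀, hx₀⟩ := exists_prime_orderOf_dvd_card' r hrQ
    obtain ⟨x, hx⟩ : ∃ x : M, x = ((x₀ : N) : M) := ⟨_, rfl⟩
    have hxo : orderOf x = r := by rw [hx, Subgroup.orderOf_coe, Subgroup.orderOf_coe, hx₀]
    have hxQ : x ∈ (Q : Subgroup N).map N.subtype := ⟨x₀, x₀.2, hx.symm⟩
    have hyx : y * x * y⁻¹ ∈ (Q : Subgroup N).map N.subtype := (mem_normalizer_iff.1 hyN x).1 hxQ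
    have hyxo : orderOf (y * x * y⁻¹) = orderOf x := by
      have := (MulAut.conj y).orderOf_eq x
      exact this
    have h1 := Cfsg.Agent.H997.Rg.zpowers_eq_of_cyclic hcyc hyx hxQ hyxo
    have h2 : y * x * y⁻¹ ∈ zpowers x := by
      rw [← h1]
      exact mem_zpowers _
    obtain ⟨k, hk⟩ := mem_powers_iff_mem_zpowers.2 h2
    have hk' : x ^ k = y * x * y⁻¹ := hk
    -- `k ^ 4 = 1`
    have hrF : (r : F) ≠ 0 := by
      rw [Ne, CharP.cast_eq_zero_iff F 2]
      intro h3
      have h4 := hr.lt (by norm_num)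
      have := (Nat.prime_dvd_prime_iff_eq Nat.prime_two hr.prime).1 h3
      omega
    have hk4 : (k : ZMod r) ^ 4 = 1 := by
      refine Cfsg.Agent.H544.Rg.pow_card_eq_one (F := F) (V := I4 → F) hrF hr.ord ?_
        (y := matE (x : GL I4 F)) (g := matE (y : GL I4 F)) ?_ ?_ ?_
      · rw [finrank_fintype_fun_eq_card]
        simp
      · rw [← map_pow, ← Subgroup.coe_pow, ← hxo, pow_orderOf_eq_one, Subgroup.coe_one, map_one]
      · intro h3
        have h4 : ((x : M) : GL I4 F) = 1 := matE.injective (h3.trans (map_one _).symm)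
        have h5 : x = 1 := Subtype.ext h4
        rw [h5, orderOf_one] at hxo
        exact hr.prime.one_lt.ne hxo
      · rw [← map_inv, ← map_mul, ← map_mul, ← map_pow, ← Subgroup.coe_inv, ← Subgroup.coe_mul, ← Subgroup.coe_mul, ← hk',
          Subgroup.coe_pow]
    have hks : (k : ZMod r) ^ s = 1 := by
      have h3 := Cfsg.Agent.H544.Rg.conj_pow_pow (K := M) hk'.symm s
      have h4 : y ^ s = 1 := by rw [← hyo, pow_orderOf_eq_one]
      rw [h4, one_mul, inv_one, mul_one] at h3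
      have h5 : x ^ 1 = x ^ k ^ s := by rw [pow_one]; exact h3
      rw [pow_eq_pow_iff_modEq, hxo, ← ZMod.natCast_eq_natCast_iff] at h5
      push_cast at h5
      exact h5.symm
    have hk1 : (k : ZMod r) = 1 := by
      have h3 : orderOf (k : ZMod r) ∣ Nat.gcd 4 s :=
        Nat.dvd_gcd (orderOf_dvd_of_pow_eq_one hk4) (orderOf_dvd_of_pow_eq_one hks)
      have h4 : Nat.gcd 4 s = 1 := by
        have : Nat.Coprime (2 ^ 2) s := Nat.Coprime.pow_left 2 ((Nat.coprime_primes Nat.prime_two hs).2 (Ne.symm hs2))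
        exact this
      rw [h4, Nat.dvd_one, orderOf_eq_one_iff] at h3
      exact h3
    have hcomm : y * x = x * y := by
      have h3 : x ^ k = x ^ 1 := by
        rw [pow_eq_pow_iff_modEq, hxo, ← ZMod.natCast_eq_natCast_iff, hk1, Nat.cast_one]
      rw [pow_one] at h3
      rw [h3] at hk'
      exact (mul_inv_eq_iff_eq_mul.1 hk'.symm)
    have h3 := cent_exp hr (x := (x : GL I4 F)) (y := (y : GL I4 F)) (hM x.2) (hM y.2)
      (by rw [← Subgroup.coe_pow, ← hxo, pow_orderOf_eq_one, Subgroup.coe_one])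
      (by
        intro h4
        have h5 : x = 1 := Subtype.ext h4
        rw [h5, orderOf_one] at hxo
        exact hr.prime.one_lt.ne hxo)
      (by rw [← Subgroup.coe_mul, hcomm, Subgroup.coe_mul])
    have h4 := orderOf_dvd_of_pow_eq_one h3
    rwa [Subgroup.orderOf_coe, hyo] at h4
  have hsp := pp_of_dvd hs hs2 hsq
  -- the Sylow 2-subgroup
  obtain ⟨S⟩ : Nonempty (Sylow 2 N) := inferInstance
  obtain ⟨y, hyo, hyN⟩ := exists_norm_of_index N S hs hd
  obtain ⟨R, hR⟩ : ∃ R : Subgroup (GL I4 F), R = ((S : Subgroup N).map N.subtype).map M.subtype := ⟨_, rfl⟩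
  have hRp : IsPGroup 2 R := by
    rw [hR]
    exact (S.isPGroup'.map _).map _
  have hR1 : R ≠ ⊥ := by
    rw [hR, Ne, Subgroup.map_eq_bot_iff_of_injective _ M.subtype_injective,
      Subgroup.map_eq_bot_iff_of_injective _ N.subtype_injective]
    intro h1
    have h2 := S.pow_dvd_card_of_pow_dvd_card (n := 1) (by rw [pow_one, hcN]; exact h2P)
    rw [pow_one, h1, Subgroup.card_bot] at h2
    omega
  have hyR : ∀ g ∈ R, (y : GL I4 F)⁻¹ * g * (y : GL I4 F) ∈ R := by
    intro g hg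
    rw [hR] at hg ⊢
    obtain ⟨g', hg', rfl⟩ := hg
    refine ⟨y⁻¹ * g' * y, ?_, rfl⟩
    have h1 := (mem_normalizer_iff.1 ((normalizer _).inv_mem hyN) g').1 hg'
    rwa [inv_inv] at h1
  have hyr : (y : GL I4 F) ^ s = 1 := by rw [← Subgroup.coe_pow, ← hyo, pow_orderOf_eq_one, Subgroup.coe_one]
  have hy1 : (y : GL I4 F) ≠ 1 := by
    intro h4
    have h5 : y = 1 := Subtype.ext h4
    rw [h5, orderOf_one] at hyo
    exact hs.one_lt.ne hyo
  rcases irr hsp hyr hy1 (fixV (R : Set (GL I4 F))) (by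
    intro v hv g hg
    have h1 := hv _ (hyR g hg)
    have h2 : (g : Matrix I4 I4 F) *ᵥ (((y : M) : GL I4 F) : Matrix I4 I4 F) *ᵥ v =
        (((y : M) : GL I4 F) : Matrix I4 I4 F) *ᵥ ((((y : GL I4 F)⁻¹ * g * (y : GL I4 F) : GL I4 F) : Matrix I4 I4 F) *ᵥ v) := by
      rw [Matrix.mulVec_mulVec, Matrix.mulVec_mulVec, ← Units.val_mul, ← Units.val_mul]
      congr 2
      group
    rw [h2, h1]) with h | h
  · exact fixV_ne_bot hRp h
  · apply hR1
    rw [eq_bot_iff]
    intro g hg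
    rw [Subgroup.mem_bot]
    apply Units.ext
    apply Matrix.ext_of_mulVec_single
    intro i
    have h1 : (Pi.single i 1 : I4 → F) ∈ fixV (R : Set (GL I4 F)) := by
      rw [h]
      exact Submodule.mem_top
    rw [Units.val_one, Matrix.one_mulVec]
    exact h1 g hg

end lin

end Cfsg.Agent.H71.Rs
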