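import Cfsg.Agent.H71.Rs.Ext
import Cfsg.Agent.H71.Rs.Minus
import Cfsg.Agent.H71.Rs.Res
import Cfsg.Agent.H544.Rg.Bound

/-!
# S3691, `Sp_4(q)`, `q` even: `BoxSp4` (helper71)
-/

set_option autoImplicit false
set_option linter.unusedSectionVars false

namespace Cfsg.Agent.H71.Rs

open Module Cfsg Cfsg.Geo Cfsg.Agent.H884.El Cfsg.Agent.H955 Cfsg.Agent.H954.TSing Cfsg.Agent.H436
open Cfsg.Agent.H659.Rs
open Cfsg.Agent.ClassicalGeometry.SympBasic Cfsg.Agent.H876 Cfsg.Agent.H931 Cfsg.Agent.H901.SaxSp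
open Cfsg.Agent.H951 (fx cm Inv)
open scoped MatrixGroups Matrix

local notation "I4" => (Fin 2 ⊕ Fin 2)

section res

variable {F : Type*} [Field F] [Fintype F]

/-- no scalars in `Sp_4(q)` -/
theorem scalar_one [CharP F 2] {z : GL I4 F} (hz : z ∈ scalars I4 F) (hs : z ∈ spGL 2 F) : z = 1 := by
  have h1 := Cfsg.Agent.H753.ResCard.scalar_sp hz hs
  have h2 : (-1 : GL I4 F) = 1 := by
    apply Units.ext
    rw [Units.val_neg, Units.val_one]
    have h3 : (2 : F) = 0 := CharTwo.two_eq_zero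
    rw [neg_eq_iff_add_eq_zero]
    ext i j
    rw [Matrix.add_apply, Matrix.zero_apply, ← two_mul, h3, zero_mul]
  rw [h2, Subgroup.zpowers_one_eq_bot, Subgroup.mem_bot] at h1
  exact h1

/-- the order divides `|Aut T|` -/
theorem card_dvd_aut [CharP F 2] {H P : Subgroup (GL I4 F)} (hle : H ≤ spGL 2 F) (hc : IsResidualCore H P) :
    Nat.card H ∣ Nat.card (MulAut P) := by
  classical
  have hPn : (P.subgroupOf H).Normal := ⟨fun x hx g => hc.normal g g.2 x hx⟩
  obtain ⟨N, hN⟩ : ∃ N : Subgroup H, N = P.subgroupOf H := ⟨_, rfl⟩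
  rw [← hN] at hPn
  have hcent : Subgroup.centralizer (N : Set H) = ⊥ := by
    rw [eq_bot_iff]
    intro h hh
    rw [Subgroup.mem_bot]
    apply Subtype.ext
    refine scalar_one (hc.centralizer_scalar h h.2 ?_) (hle h.2)
    intro x hx
    have h1 := Subgroup.mem_centralizer_iff.1 hh ⟨x, hc.le hx⟩ (by rw [hN]; exact hx)
    have h2 : x * (h : GL I4 F) = h * x := congrArg Subtype.val h1
    rw [← h2, mul_assoc x, mul_inv_cancel, mul_one, mul_inv_cancel]
    exact one_mem _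
  have hinj : Function.Injective (MulAut.conjNormal : H →* MulAut N) := by
    rw [injective_iff_map_eq_one]
    intro g hg
    have h1 : g ∈ Subgroup.centralizer (N : Set H) := by
      rw [Subgroup.mem_centralizer_iff]
      intro n hn
      have h2 : ((MulAut.conjNormal g : MulAut N) ⟨n, hn⟩ : H) = n := by rw [hg]; rfl
      rw [MulAut.conjNormal_apply] at h2
      exact (mul_inv_eq_iff_eq_mul.1 h2).symm
    rw [hcent, Subgroup.mem_bot] at h1
    exact h1
  have hfin : Finite (MulAut N) :=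
    Finite.of_injective (fun σ => (σ : N → N)) DFunLike.coe_injective
  have e : N ≃* P := by
    rw [hN]
    exact Subgroup.subgroupOfEquivOfLe hc.le
  have h1 : Nat.card H ∣ Nat.card (MulAut N) := Subgroup.card_dvd_of_injective _ hinj
  rwa [Nat.card_congr (MulAut.congr e).toEquiv] at h1

/-- **the residual subgroups with `P ≅ Sz(q)`** -/
theorem card_sz [CharP F 2] {M P : Subgroup (GL I4 F)} (hM : M ≤ spGL 2 F) (hc : IsResidualCore M P) {m : ℕ} (hm : 1 ≤ m)
    (hF : Fintype.card F = 2 ^ (2 * m + 1))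
    (e : (P ⧸ (scalars I4 F).subgroupOf P) ≃* Cfsg.Lie.Sz F (2 ^ (m + 1))) {r : ℕ} (hr : PP (Nat.card F) 4 r) :
    Nat.card M = Fintype.card F ^ 2 * (Fintype.card F ^ 2 + 1) * (Fintype.card F - 1) := by
  classical
  have hbot : (scalars I4 F).subgroupOf P = ⊥ := by
    rw [eq_bot_iff]
    intro x hx
    rw [Subgroup.mem_bot]
    exact Subtype.ext (scalar_one hx (hM (hc.le x.2)))
  have e' : P ≃* Cfsg.Lie.Sz F (2 ^ (m + 1)) :=
    ((QuotientGroup.quotientMulEquivOfEq hbot).trans QuotientGroup.quotientBot).symm.trans e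
  have hPc : Nat.card P = (2 ^ (2 * m + 1)) ^ 2 * (2 ^ (2 * m + 1) - 1) * ((2 ^ (2 * m + 1)) ^ 2 + 1) := by
    rw [Nat.card_congr e'.toEquiv]
    exact (S1163.result hm hF).1
  have h1 := card_dvd_aut hM hc
  rw [Nat.card_congr (MulAut.congr e').toEquiv] at h1
  have h2 : Nat.card (MulAut (Cfsg.Lie.Sz F (2 ^ (m + 1)))) ∣ (2 * m + 1) * Nat.card (Cfsg.Lie.Sz F (2 ^ (m + 1))) := by
    rw [← S2126.result hm hF, Subgroup.card_eq_card_quotient_mul_card_subgroup
      (Cfsg.Inn (Cfsg.Lie.Sz F (2 ^ (m + 1))))]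
    exact Nat.mul_dvd_mul_left _ (Subgroup.card_range_dvd _)
  rw [← Nat.card_congr e'.toEquiv] at h2
  have hcN : Nat.card (P.subgroupOf M) = Nat.card P := Nat.card_congr (Subgroup.subgroupOfEquivOfLe hc.le).toEquiv
  have h3 := Subgroup.card_mul_index (P.subgroupOf M)
  rw [hcN] at h3
  have h4 : (P.subgroupOf M).index ∣ 2 * m + 1 := by
    have h5 := h1.trans h2
    rw [← h3, mul_comm (2 * m + 1)] at h5
    exact Nat.dvd_of_mul_dvd_mul_left Nat.card_pos h5
  have hPn : (P.subgroupOf M).Normal := ⟨fun x hx g => hc.normal g g.2 x hx⟩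
  have hrP : r ∣ Nat.card P := by
    rw [hPc, ← hF, ← Nat.card_eq_fintype_card]
    exact (sq_add_one hr).mul_left _
  have h2P : 2 ∣ Nat.card P := by
    rw [hPc, mul_assoc]
    exact Dvd.dvd.mul_right (dvd_pow (dvd_pow_self 2 (by omega)) two_ne_zero) _
  have h6 : (P.subgroupOf M).index = 1 := by
    by_contra hne
    obtain ⟨s, hs, hd⟩ := Nat.exists_prime_and_dvd hne
    refine no_odd_index hM hc.le hPn hr hrP h2P hs ?_ hd
    rintro rfl
    have := hd.trans h4
    omega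
  rw [← h3, h6, mul_one, hPc, hF]
  ring

end res

variable {F : Type} [Field F] [Fintype F]

/-- the maximal subgroups -/
theorem cases_max {a : ℕ} (hF : Fintype.card F = 2 ^ a) (ha : 2 ≤ a) {r : ℕ} (hr : PP 2 (a * 4) r)
    {M : Subgroup (GL I4 F)} (hM : IsMaximalIn (spGL 2 F) M) (hrM : r ∣ Nat.card M) :
    (∃ L : Subgroup (GL I4 F), IsL L ∧ (∀ x ∈ M, ∀ y ∈ L, x * y * x⁻¹ ∈ L) ∧
      ∀ x ∈ M, ∀ y ∈ M, x ∉ L → y ∉ L → x⁻¹ * y ∈ L) ∨
    Nat.card M ∣ (2 ^ a) ^ 2 * ((2 ^ a) ^ 2 + 1) * (2 ^ a - 1) := by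
  classical
  have hc : Nat.card F = Fintype.card F := Nat.card_eq_fintype_card
  have hι : Fintype.card (Fin 2 ⊕ Fin 2) = 4 := by simp
  have hrq : PP (Nat.card F) 4 r := by rw [hc, hF]; exact hr.of_pow (by omega)
  have h4 : 4 ≤ Fintype.card F := by
    rw [hF]
    exact Nat.pow_le_pow_right (n := 2) (by norm_num) ha
  have heven : Even (Fintype.card F) := by
    rw [hF]
    exact Even.pow_of_ne_zero even_two (by omega)
  have hodd : ¬ Odd (Fintype.card F) := Nat.not_odd_iff_even.2 heven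
  have hchar : CharP F 2 := Cfsg.Agent.H544.Rg.charP_two hF
  have hlt := hrq.lt (by omega)
  -- an irreducible element
  obtain ⟨y, hyM, hyr, hy1⟩ := exists_elt' hrq.prime hrM
  have hirr : ∀ W : Submodule F (Fin 2 ⊕ Fin 2 → F),
      (∀ v ∈ W, (y : Matrix (Fin 2 ⊕ Fin 2) (Fin 2 ⊕ Fin 2) F) *ᵥ v ∈ W) → W = ⊥ ∨ W = ⊤ :=
    Cfsg.Agent.H262.El.irr_of_od (by rw [hι, ← hc]; exact PP.od hrq (by omega)) hyr hy1
  rcases S5790.result hodd h4 M hM with h | h | h | h | h | h
  · exfalso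
    obtain ⟨W, hW0, hW, rfl⟩ := h
    exact Cfsg.Agent.H262.El.not_mem_subspaceStabilizer_of_irr hirr hW0
      (Cfsg.Agent.H262.El.totallySingular_ne_top (by omega) hW) hyM.1
  · exfalso
    obtain ⟨D, hD, rfl⟩ := h
    have := decomp_le hD.decomp inf_le_left hrq (by omega) hrM
    omega
  · obtain ⟨K, hK, hsa, halt, rfl⟩ := h
    exact Or.inl (ext_isL hK hsa halt)
  · exfalso
    obtain ⟨F₀, s, P, ζ, hs, hcard, -, -, rfl⟩ := h
    exact kill_subfield inf_le_left hs (by rw [hc]; exact hcard) Nat.prime_two (by rw [hc]; exact hF) hr (by omega)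
      (by omega) hrM
  · obtain ⟨Q0, hQ, hpol, rfl⟩ := h
    obtain ⟨Q, hQ', hnd⟩ := Cfsg.Agent.H883.Bridge.exists_quadraticForm hQ
    subst hQ'
    have hHi := le_isometryGroup (F := F) (m := 2) (by omega) hpol rfl
    have hfin := finrank_sum (F := F) 2
    obtain ⟨g, hgH, hiso, -, hg1⟩ := exists_elt hHi hrq (by omega) hrM
    obtain ⟨hcm, hcmP⟩ := hiso.even_case hnd (lin_ne_one hg1) hrq (by decide) (by omega)
    have hcmt : cm (lin g) = ⊤ := Submodule.eq_top_of_finrank_eq (by rw [hcm, hfin])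
    have hnP : ¬ IsPlus Q := by
      intro hP
      apply hcmP
      rw [hcmt]
      obtain ⟨U, hU, hUd⟩ := hP
      refine ⟨U.comap (⊤ : Submodule F _).subtype, fun w hw => ?_, ?_⟩
      · rw [res_apply]
        exact hU _ hw
      · rw [finrank_top, ← hUd]
        congr 1
        exact ((Submodule.comapSubtypeEquivOfLe (p := U) (q := ⊤) le_top).finrank_eq)
    have hnd' : Cfsg.Agent.LieClassical.OrthCore.Nondeg Q := by
      intro x hx
      apply eq_zero_of_forall_sympForm_right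
      intro z
      rw [← hpol]
      exact hx z
    obtain ⟨L, hL, h1, h2⟩ := minus_isL h4 hpol hnd' hnP
    exact Or.inl ⟨L, hL, fun x hx => h1 x (hHi hx), fun x hx y hy => h2 x (hHi hx) y (hHi hy)⟩
  · obtain ⟨P, m, hcore, hm, hF', ⟨e⟩⟩ := S5791.result hodd h4 M hM h
    right
    rw [card_sz hM.1.le hcore hm hF' e hrq, hF]

/-- **`BoxSp4`** -/
theorem boxSp4 : BoxSp4 := by
  intro F _ _ f r hf hF hr R hR hrR
  by_cases hne : R = spGL 2 F
  · exact Or.inl hne
  right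
  obtain ⟨M, hM, hRM⟩ := Cfsg.Agent.H905.exists_isMaximalIn_of_lt (lt_of_le_of_ne hR hne)
  have hd := Subgroup.card_dvd_of_le hRM
  have hpp : PP 2 (f * 4) r := by
    rw [mul_comm]
    exact ⟨hr.prime, hr.ord⟩
  rcases cases_max hF (by omega) hpp hM (hrR.trans hd) with ⟨L, hL, h1, h2⟩ | h
  · exact Or.inl ⟨L, hL, fun x hx => h1 x (hRM hx), fun x hx y hy => h2 x (hRM hx) y (hRM hy)⟩
  · exact Or.inr (hd.trans h)

end Cfsg.Agent.H71.Rs
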