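import Cfsg.Agent.H659.Rs.Box
import Cfsg.Agent.H813.SaxSpK
import Cfsg.Agent.H954.FieldSub
import Cfsg.Agent.H906.Cov.EKill
import Cfsg.Agent.ClassicalGeometry.PSL2Basic

/-!
# S3691, `Sp_4(q)`, `q` even: the normaliser of a self-adjoint quadratic extension field (helper71)

`ext_isL` : the elements of `Sp_4(q)` commuting with the field form a subgroup `SL_2(q²)` of index at most 2.
-/

set_option autoImplicit false
set_option linter.unusedSectionVars false

namespace Cfsg.Agent.H71.Rs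

open Matrix Module Cfsg Cfsg.Geo Cfsg.Agent.H659.Rs
open Cfsg.Agent.H876 Cfsg.Agent.H931 Cfsg.Agent.ClassicalGeometry.SympBasic
open scoped MatrixGroups

local notation "I4" => (Fin 2 ⊕ Fin 2)

section grp

variable {G : Type*} [Group G]

/-- subgroups of index at most two -/
theorem two_of_relIndex {N L : Subgroup G} (hLN : L ≤ N) (h : L.relIndex N ∣ 2) :
    (∀ x ∈ N, ∀ y ∈ L, x * y * x⁻¹ ∈ L) ∧ ∀ x ∈ N, ∀ y ∈ N, x ∉ L → y ∉ L → x⁻¹ * y ∈ L := by
  rcases (Nat.dvd_prime Nat.prime_two).1 h with h1 | h2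
  · have h3 : N ≤ L := Subgroup.relIndex_eq_one.1 h1
    exact ⟨fun x hx y hy => L.mul_mem (L.mul_mem (h3 hx) hy) (L.inv_mem (h3 hx)), fun x hx y hy hxL => absurd (h3 hx) hxL⟩
  · have h3 : (L.subgroupOf N).index = 2 := h2
    have h4 : ∀ {a b : N}, a * b ∈ L.subgroupOf N ↔ (a ∈ L.subgroupOf N ↔ b ∈ L.subgroupOf N) := fun {a b} =>
      Subgroup.mul_mem_iff_of_index_two h3
    have h5 := Subgroup.normal_of_index_eq_two h3
    refine ⟨fun x hx y hy => ?_, fun x hx y hy hxL hyL => ?_⟩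
    · exact h5.conj_mem ⟨y, hLN hy⟩ hy ⟨x, hx⟩
    · have h6 : (⟨x, hx⟩⁻¹ * ⟨y, hy⟩ : N) ∈ L.subgroupOf N := by
        rw [h4]
        constructor
        · intro h
          exact absurd ((Subgroup.inv_mem_iff _).1 h) hxL
        · intro h
          exact absurd h hyL
      exact h6

end grp

section rank

variable {F : Type*} [Field F]

/-- an involution with even rank in dimension four has rank two -/
theorem rank_two [CharP F 2] {x : GL I4 F} (hx : x * x = 1) (hx1 : x ≠ 1)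
    (h : 2 ∣ ((x : Matrix I4 I4 F) - 1).rank) : ((x : Matrix I4 I4 F) - 1).rank = 2 := by
  set T : Matrix I4 I4 F := (x : Matrix I4 I4 F) - 1 with hT
  have hT0 : T ≠ 0 := by
    intro h0
    exact hx1 (Units.ext (sub_eq_zero.1 h0))
  have hTT : T * T = 0 := by
    have h1 : (x : Matrix I4 I4 F) * x = 1 := by rw [← Units.val_mul, hx, Units.val_one]
    have h2 : (2 : F) = 0 := CharTwo.two_eq_zero
    calc T * T = (x : Matrix I4 I4 F) * x - (2 : F) • (x : Matrix I4 I4 F) + 1 := by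
          rw [hT, sub_mul, mul_sub, mul_sub, two_smul, one_mul, mul_one, mul_one]
          abel
      _ = 1 + 1 := by rw [h1, h2, zero_smul, sub_zero]
      _ = (2 : F) • (1 : Matrix I4 I4 F) := by rw [two_smul]
      _ = 0 := by rw [h2, zero_smul]
  have h1 : T.rank ≠ 0 := by
    intro h0
    apply hT0
    have h0' : finrank F (LinearMap.range (Matrix.mulVecLin T)) = 0 := h0
    rw [Submodule.finrank_eq_zero, LinearMap.range_eq_bot] at h0'
    apply Matrix.mulVec_injective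
    funext v
    rw [← Matrix.mulVecLin_apply, h0', Matrix.zero_mulVec]
    rfl
  have h2 := LinearMap.finrank_range_add_finrank_ker (Matrix.mulVecLin T)
  rw [finrank_fintype_fun_eq_card] at h2
  have h3 : LinearMap.range (Matrix.mulVecLin T) ≤ LinearMap.ker (Matrix.mulVecLin T) := by
    rintro _ ⟨v, rfl⟩
    rw [LinearMap.mem_ker, Matrix.mulVecLin_apply, Matrix.mulVecLin_apply, Matrix.mulVec_mulVec, hTT, Matrix.zero_mulVec]
  have h4 := Submodule.finrank_mono h3
  have h5 : Fintype.card I4 = 4 := by simp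
  have h6 : T.rank = finrank F (LinearMap.range (Matrix.mulVecLin T)) := rfl
  omega

end rank

section psl

variable {L : Type*} [Field L]

/-- `SL_2 = PSL_2` in characteristic two -/
theorem slEquiv [CharP L 2] :
    Nonempty (Matrix.SpecialLinearGroup (Fin 2) L ≃* Matrix.ProjectiveSpecialLinearGroup (Fin 2) L) := by
  refine ⟨MulEquiv.ofBijective (QuotientGroup.mk' (Subgroup.center (Matrix.SpecialLinearGroup (Fin 2) L)))
    ⟨?_, QuotientGroup.mk'_surjective _⟩⟩
  rw [injective_iff_map_eq_one]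
  intro A hA
  rw [QuotientGroup.mk'_apply, QuotientGroup.eq_one_iff, Matrix.SpecialLinearGroup.mem_center_iff] at hA
  obtain ⟨c, hc, hcA⟩ := hA
  have hc1 : c = 1 := by
    rw [Fintype.card_fin] at hc
    have h3 : (c - 1) ^ 2 = 0 := by
      rw [sub_pow_char]
      simp [hc]
    exact sub_eq_zero.1 (pow_eq_zero_iff two_ne_zero |>.1 h3)
  apply Subtype.ext
  rw [← hcA, hc1, map_one]
  rfl

end psl

section ext

variable {F : Type} [Field F] [Fintype F]

/-- the elements of `Sp_4(q)` commuting with `K` -/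
def cenK (K : Subalgebra F (Matrix I4 I4 F)) : Subgroup (GL I4 F) where
  carrier := {g | g ∈ spGL 2 F ∧ ∀ k ∈ K, (g : Matrix I4 I4 F) * k = k * g}
  mul_mem' := by
    rintro g h ⟨hg1, hg2⟩ ⟨hh1, hh2⟩
    refine ⟨Subgroup.mul_mem _ hg1 hh1, fun k hk => ?_⟩
    rw [Units.val_mul, Matrix.mul_assoc, hh2 k hk, ← Matrix.mul_assoc, hg2 k hk, Matrix.mul_assoc]
  one_mem' := ⟨Subgroup.one_mem _, fun k _ => by rw [Units.val_one, Matrix.one_mul, Matrix.mul_one]⟩
  inv_mem' := by
    rintro g ⟨hg1, hg2⟩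
    refine ⟨Subgroup.inv_mem _ hg1, fun k hk => ?_⟩
    have h3 : (g : Matrix I4 I4 F) * k = k * g := hg2 k hk
    calc ((g⁻¹ : GL I4 F) : Matrix I4 I4 F) * k
        = ((g⁻¹ : GL I4 F) : Matrix I4 I4 F) * (k * g) * ((g⁻¹ : GL I4 F) : Matrix I4 I4 F) := by
          rw [Matrix.mul_assoc, Matrix.mul_assoc, ← Units.val_mul, mul_inv_cancel, Units.val_one, Matrix.mul_one]
      _ = ((g⁻¹ : GL I4 F) : Matrix I4 I4 F) * (g * k) * ((g⁻¹ : GL I4 F) : Matrix I4 I4 F) := by rw [h3]
      _ = k * ((g⁻¹ : GL I4 F) : Matrix I4 I4 F) := by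
          rw [← Matrix.mul_assoc ((g⁻¹ : GL I4 F) : Matrix I4 I4 F), ← Units.val_mul, inv_mul_cancel, Units.val_one,
            Matrix.one_mul]

theorem mem_cenK {K : Subalgebra F (Matrix I4 I4 F)} {g : GL I4 F} :
    g ∈ cenK K ↔ g ∈ spGL 2 F ∧ ∀ k ∈ K, (g : Matrix I4 I4 F) * k = k * g := Iff.rfl

/-- **the centraliser of a quadratic field in `Sp_4(q)` is `SL_2(q²)`.** -/
theorem cenK_equiv {K : Subalgebra F (Matrix I4 I4 F)} (hK : IsFieldSubalgebra 2 K)
    (hsa : IsSelfAdjointFor (sympForm 2 F) K) (halt : ∀ k ∈ K, ∀ v, sympForm 2 F (k *ᵥ v) v = 0) :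
    ∃ (L : Type) (_ : Field L) (_ : Fintype L) (_ : Algebra F L), Fintype.card L = Fintype.card F ^ 2 ∧
      Nonempty (Matrix.SpecialLinearGroup (Fin 2) L ≃* cenK K) := by
  classical
  obtain ⟨L, hLf, hLa, φ, hφ, hfin⟩ := Cfsg.Agent.H954.FieldSub.exists_field hK
  have hφK : ∀ a, φ a ∈ K := by
    intro a
    rw [← hφ]
    exact ⟨a, rfl⟩
  have hfd : FiniteDimensional F L := FiniteDimensional.of_finrank_pos (by rw [hfin]; norm_num)
  have hLfin : Finite L := Module.finite_of_finite F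
  have hLft : Fintype L := Fintype.ofFinite L
  have hLc : Fintype.card L = Fintype.card F ^ 2 := by
    rw [← Nat.card_eq_fintype_card, Module.natCard_eq_pow_finrank (K := F), hfin, Nat.card_eq_fintype_card]
  refine ⟨L, hLf, hLft, hLa, hLc, ?_⟩
  let act : L →+* Module.End F (I4 → F) :=
    ((Matrix.toLinAlgEquiv' : Matrix I4 I4 F ≃ₐ[F] Module.End F (I4 → F)).toAlgHom.comp φ).toRingHom
  let _ : Module L (I4 → F) := Module.compHom (I4 → F) act
  have hsmul : ∀ (a : L) (v : I4 → F), a • v = φ a *ᵥ v := fun _ _ => rfl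
  have htow : IsScalarTower F L (I4 → F) := ⟨fun c a v => by
    rw [hsmul, hsmul, map_smul, Matrix.smul_mulVec]⟩
  have hrank : Module.finrank L (I4 → F) = 2 := by
    have h1 := Module.finrank_mul_finrank F L (I4 → F)
    rw [hfin, Module.finrank_fintype_fun_eq_card] at h1
    simp only [Fintype.card_sum, Fintype.card_fin] at h1
    omega
  have hfL : Module.Finite L (I4 → F) := Module.finite_of_finrank_pos (by rw [hrank]; norm_num)
  let b : Basis (Fin 2) L (I4 → F) := Module.finBasisOfFinrankEq L (I4 → F) hrank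
  -- the form
  have hB1 : ∀ (k a : L) (x y : I4 → F), sympForm 2 F (φ k *ᵥ x) (a • y) = sympForm 2 F (φ (k * a) *ᵥ x) y := by
    intro k a x y
    rw [hsmul, ← hsa _ (hφK a), mulVec_mulVec, ← map_mul, mul_comm a k]
  have hB2 : ∀ (k a : L) (x y : I4 → F), sympForm 2 F (φ k *ᵥ (a • x)) y = sympForm 2 F (φ (k * a) *ᵥ x) y := by
    intro k a x y
    rw [hsmul, mulVec_mulVec, ← map_mul]
  have hB3 : ∀ (k : L) (x : I4 → F), sympForm 2 F (φ k *ᵥ x) x = 0 := fun k x => halt _ (hφK k) x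
  have hB4 : ∀ (k : L) (x y : I4 → F), sympForm 2 F (φ k *ᵥ y) x = - sympForm 2 F (φ k *ᵥ x) y := by
    intro k x y
    rw [sympForm_swap (φ k *ᵥ y) x, ← hsa _ (hφK k)]
  have he : ∀ (k a c : L) (x y : I4 → F), sympForm 2 F (φ k *ᵥ (a • x)) (c • y) =
      sympForm 2 F (φ (k * c * a) *ᵥ x) y := by
    intro k a c x y
    rw [hB1, hB2]
  -- the form in terms of the determinant
  have hdet : ∀ (k a0 a1 c0 c1 : L), sympForm 2 F (φ k *ᵥ (a0 • b 0 + a1 • b 1)) (c0 • b 0 + c1 • b 1) =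
      sympForm 2 F (φ (k * (a0 * c1 - c0 * a1)) *ᵥ (b 0)) (b 1) := by
    intro k a0 a1 c0 c1
    have e01 : sympForm 2 F (φ k *ᵥ (a1 • b 1)) (c0 • b 0) =
        - sympForm 2 F (φ (k * c0 * a1) *ᵥ b 0) (b 1) := by
      rw [he, hB4]
    have e00 : sympForm 2 F (φ k *ᵥ (a0 • b 0)) (c0 • b 0) = 0 := by rw [he, hB3]
    have e11 : sympForm 2 F (φ k *ᵥ (a1 • b 1)) (c1 • b 1) = 0 := by rw [he, hB3]
    have e10 := he k a0 c1 (b 0) (b 1)
    have h2 : φ (k * (a0 * c1 - c0 * a1)) = φ (k * c1 * a0) - φ (k * c0 * a1) := by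
      rw [← map_sub]
      congr 1
      ring
    rw [mulVec_add, sympForm_add_left, sympForm_add_right, sympForm_add_right, e00, e11, e01, e10,
      h2, sub_mulVec, sympForm_sub_left]
    ring
  have hdet' : ∀ x y : I4 → F, sympForm 2 F x y =
      sympForm 2 F (φ (b.repr x 0 * b.repr y 1 - b.repr y 0 * b.repr x 1) *ᵥ (b 0)) (b 1) := by
    intro x y
    have h1 := hdet 1 (b.repr x 0) (b.repr x 1) (b.repr y 0) (b.repr y 1)
    rw [← Fin.sum_univ_two (fun i => b.repr x i • b i), ← Fin.sum_univ_two (fun i => b.repr y i • b i), b.sum_repr,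
      b.sum_repr, map_one, one_mulVec, one_mul] at h1
    exact h1
  -- nondegeneracy
  have hnz : ∃ k : L, sympForm 2 F (φ k *ᵥ (b 0)) (b 1) ≠ 0 := by
    by_contra hall
    push Not at hall
    apply b.ne_zero 0
    apply eq_zero_of_forall_sympForm_right
    intro y
    rw [hdet', hall]
  -- the homomorphism
  let lin : Matrix.SpecialLinearGroup (Fin 2) L → ((I4 → F) →ₗ[L] (I4 → F)) := fun A => Matrix.toLin b b (A : Matrix _ _ L)
  have hlin_mul : ∀ A B, lin (A * B) = lin A ∘ₗ lin B := by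
    intro A B
    show Matrix.toLin b b ((A * B : Matrix.SpecialLinearGroup (Fin 2) L) : Matrix _ _ L) = _
    rw [Matrix.SpecialLinearGroup.coe_mul, Matrix.toLin_mul b b b]
  have hlin_one : lin 1 = LinearMap.id := by
    show Matrix.toLin b b ((1 : Matrix.SpecialLinearGroup (Fin 2) L) : Matrix _ _ L) = _
    rw [Matrix.SpecialLinearGroup.coe_one, Matrix.toLin_one]
  let mt : Matrix.SpecialLinearGroup (Fin 2) L → Matrix I4 I4 F := fun A =>
    LinearMap.toMatrix' ((lin A).restrictScalars F)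
  have hmt : ∀ A v, mt A *ᵥ v = lin A v := by
    intro A v
    show LinearMap.toMatrix' ((lin A).restrictScalars F) *ᵥ v = _
    rw [LinearMap.toMatrix'_mulVec]
    rfl
  have hmt_mul : ∀ A B, mt (A * B) = mt A * mt B := by
    intro A B
    apply Matrix.toLin'.injective
    refine LinearMap.ext fun v => ?_
    rw [Matrix.toLin'_apply, Matrix.toLin'_apply, ← mulVec_mulVec, hmt, hmt, hmt, hlin_mul]
    rfl
  have hmt_one : mt 1 = 1 := by
    apply Matrix.toLin'.injective
    refine LinearMap.ext fun v => ?_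
    rw [Matrix.toLin'_apply, Matrix.toLin'_apply, hmt, hlin_one, one_mulVec]
    rfl
  let ρ : Matrix.SpecialLinearGroup (Fin 2) L →* GL I4 F :=
    { toFun := fun A => ⟨mt A, mt A⁻¹, by rw [← hmt_mul, mul_inv_cancel, hmt_one], by rw [← hmt_mul, inv_mul_cancel, hmt_one]⟩
      map_one' := Units.ext hmt_one
      map_mul' := fun A B => Units.ext (hmt_mul A B) }
  have hρ : ∀ A v, ((ρ A : GL I4 F) : Matrix I4 I4 F) *ᵥ v = lin A v := hmt
  have hρinj : Function.Injective ρ := by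
    intro A B hAB
    have h1 : lin A = lin B := by
      refine LinearMap.ext fun v => ?_
      rw [← hρ, ← hρ, hAB]
    exact Subtype.ext ((Matrix.toLin b b).injective h1)
  have hrepr : ∀ (A : Matrix.SpecialLinearGroup (Fin 2) L) (v : I4 → F) (i : Fin 2),
      b.repr (lin A v) i = A.1 i 0 * b.repr v 0 + A.1 i 1 * b.repr v 1 := by
    intro A v i
    have h1 := congrFun (Matrix.repr_toLin b b (A : Matrix _ _ L) v) i
    refine h1.trans ?_
    simp [Matrix.mulVec, dotProduct, Fin.sum_univ_two]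
  have hmem : ∀ A, ρ A ∈ cenK K := by
    intro A
    refine ⟨mem_spGL_iff.2 fun x y => ?_, fun k hk => ?_⟩
    · rw [hdet' x y]
      have h1 := hdet' (((ρ A : GL I4 F) : Matrix I4 I4 F) *ᵥ x) (((ρ A : GL I4 F) : Matrix I4 I4 F) *ᵥ y)
      refine h1.trans ?_
      congr 3
      rw [hρ, hρ, hrepr, hrepr, hrepr, hrepr]
      have h2 : A.1 0 0 * A.1 1 1 - A.1 0 1 * A.1 1 0 = 1 := by
        rw [← Matrix.det_fin_two]
        exact A.2
      linear_combination (b.repr x 0 * b.repr y 1 - b.repr y 0 * b.repr x 1) * h2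
    · rw [← hφ] at hk
      obtain ⟨a, rfl⟩ := hk
      apply Matrix.toLin'.injective
      refine LinearMap.ext fun v => ?_
      rw [Matrix.toLin'_apply, Matrix.toLin'_apply, ← mulVec_mulVec, ← mulVec_mulVec]
      have h3 : ∀ w, (φ : L →ₐ[F] _).toRingHom a *ᵥ w = a • w := fun w => rfl
      rw [h3, h3, hρ, hρ, map_smul]
  have hsurj : ∀ g ∈ cenK K, ∃ A, ρ A = g := by
    rintro g ⟨hg1, hg2⟩
    let lg : (I4 → F) →ₗ[L] (I4 → F) :=
      { toFun := fun v => (g : Matrix I4 I4 F) *ᵥ v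
        map_add' := fun u v => Matrix.mulVec_add _ u v
        map_smul' := fun a v => by
          rw [hsmul, RingHom.id_apply, hsmul, mulVec_mulVec, mulVec_mulVec, hg2 _ (hφK a)] }
    set M := LinearMap.toMatrix b b lg with hM
    have hcol : ∀ j, (g : Matrix I4 I4 F) *ᵥ (b j) = M 0 j • b 0 + M 1 j • b 1 := by
      intro j
      have h1 := b.sum_repr (lg (b j))
      rw [Fin.sum_univ_two] at h1
      rw [hM, LinearMap.toMatrix_apply, LinearMap.toMatrix_apply]
      exact h1.symm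
    have hdetM : M.det = 1 := by
      have key : ∀ k : L, sympForm 2 F (φ (k * M.det) *ᵥ (b 0)) (b 1) = sympForm 2 F (φ k *ᵥ (b 0)) (b 1) := by
        intro k
        have h1 : sympForm 2 F (φ k *ᵥ (b 0)) (b 1) =
            sympForm 2 F (φ k *ᵥ (M 0 0 • b 0 + M 1 0 • b 1)) (M 0 1 • b 0 + M 1 1 • b 1) := by
          rw [← hcol, ← hcol, mulVec_mulVec, ← hg2 _ (hφK k), ← mulVec_mulVec]
          exact (mem_spGL_iff.1 hg1 _ _).symm
        rw [h1, hdet, det_fin_two]
      by_contra hne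
      have hne' : M.det - 1 ≠ 0 := sub_ne_zero.2 hne
      obtain ⟨k, hk⟩ := hnz
      apply hk
      have h1 := key (k / (M.det - 1))
      have h2 : φ k = φ (k / (M.det - 1) * M.det) - φ (k / (M.det - 1)) := by
        rw [← map_sub]
        congr 1
        field_simp
      rw [h2, sub_mulVec, sympForm_sub_left, h1, sub_self]
    refine ⟨⟨M, hdetM⟩, ?_⟩
    apply Units.ext
    apply Matrix.toLin'.injective
    refine LinearMap.ext fun v => ?_
    rw [Matrix.toLin'_apply, Matrix.toLin'_apply]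
    refine (hρ _ v).trans ?_
    show Matrix.toLin b b M v = _
    rw [hM, Matrix.toLin_toMatrix]
    rfl
  exact ⟨MulEquiv.ofBijective (ρ.codRestrict (cenK K) hmem)
    ⟨fun A B h => hρinj (congrArg Subtype.val h), fun g => by
      obtain ⟨A, hA⟩ := hsurj g g.2
      exact ⟨A, Subtype.ext hA⟩⟩⟩

/-- **the normaliser of a self-adjoint quadratic extension field** -/
theorem ext_isL [CharP F 2] {K : Subalgebra F (Matrix I4 I4 F)} (hK : IsFieldSubalgebra 2 K)
    (hsa : IsSelfAdjointFor (sympForm 2 F) K) (halt : ∀ k ∈ K, ∀ v, sympForm 2 F (k *ᵥ v) v = 0) :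
    ∃ L : Subgroup (GL I4 F), IsL L ∧
      (∀ x ∈ subalgebraNormalizer K ⊓ spGL 2 F, ∀ y ∈ L, x * y * x⁻¹ ∈ L) ∧
      ∀ x ∈ subalgebraNormalizer K ⊓ spGL 2 F, ∀ y ∈ subalgebraNormalizer K ⊓ spGL 2 F, x ∉ L → y ∉ L → x⁻¹ * y ∈ L := by
  classical
  obtain ⟨L, hLf, hLft, hLa, hLc, ⟨e⟩⟩ := cenK_equiv hK hsa halt
  have hchar : CharP L 2 := charP_of_injective_algebraMap (algebraMap F L).injective 2
  obtain ⟨e'⟩ := slEquiv (L := L)
  have hle : cenK K ≤ subalgebraNormalizer K ⊓ spGL 2 F := by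
    rintro g ⟨hg1, hg2⟩
    refine ⟨Cfsg.Agent.H954.FieldSub.mem_normalizer_of fun k hk => ?_, hg1⟩
    rw [hg2 k hk, Matrix.mul_assoc, ← Units.val_mul, mul_inv_cancel, Units.val_one, Matrix.mul_one]
    exact hk
  have hcard : Nat.card (cenK K) = Fintype.card F ^ 2 * (Fintype.card F ^ 4 - 1) := by
    rw [← Nat.card_congr e.toEquiv, Cfsg.Agent.ClassicalGeometry.PSL2Basic.card_SL2, hLc]
    ring_nf
  have hidx : (cenK K).relIndex (subalgebraNormalizer K ⊓ spGL 2 F) ∣ 2 := by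
    have h1 := Subgroup.card_mul_index ((cenK K).subgroupOf (subalgebraNormalizer K ⊓ spGL 2 F))
    have h2 : Nat.card ((cenK K).subgroupOf (subalgebraNormalizer K ⊓ spGL 2 F)) = Nat.card (cenK K) :=
      Nat.card_congr (Subgroup.subgroupOfEquivOfLe hle).toEquiv
    have h3 := Cfsg.Agent.H813.SaxSp.card_field hK hsa halt
    rw [← h1, h2, mul_assoc, ← hcard, mul_comm 2] at h3
    exact Nat.dvd_of_mul_dvd_mul_left Nat.card_pos h3
  obtain ⟨h1, h2⟩ := two_of_relIndex hle hidx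
  refine ⟨cenK K, ⟨fun g hg => hg.1, ⟨L, hLf, hLft, hLc, ⟨e.symm.trans e'⟩⟩, ?_⟩, h1, h2⟩
  intro x hx hxx hx1
  refine rank_two hxx hx1 ?_
  have h3 := Cfsg.Agent.H906.Cov.dvd_finrank_of_invariant hK
    (LinearMap.range (Matrix.mulVecLin ((x : Matrix I4 I4 F) - 1))) (by
      rintro k hk _ ⟨v, rfl⟩
      refine ⟨k *ᵥ v, ?_⟩
      rw [Matrix.mulVecLin_apply, Matrix.mulVecLin_apply, mulVec_mulVec, mulVec_mulVec, sub_mul, mul_sub, hx.2 k hk,
        one_mul, mul_one])
  exact h3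

end ext

end Cfsg.Agent.H71.Rs
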